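import Mathlib
import Cfsg.Agent.H613.KS.Defs

/-!
# S4577: the action of `y` on `D = 2^4` (helper200)

* `D4` : `y^5` centralises `D`, `y` has no fixed points, the product of a `y`-orbit is `1`, an orbit generates `D`;
* `exists_word` : the elements of `D` in terms of `d, d^y, d^(y²), d^(y³)`;
* `orbits` : every `e ≠ 1` is conjugate under `y` to `d`, `d d^y` or `d d^(y²)`.
-/

set_option autoImplicit false

open Cfsg Cfsg.Agent.H613.KS

universe u

namespace Cfsg.Agent.H200.KS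

section

variable {S : Type u} [Group S] {D : Subgroup S} {y : S}

theorem comm_of (h : E16 D) : ∀ a ∈ D, ∀ b ∈ D, a * b = b * a := by
  intro a ha b hb
  have h1 := h.inv a ha
  have h2 := h.inv b hb
  have h3 := h.inv (a * b) (D.mul_mem ha hb)
  have e1 : a⁻¹ = a := inv_eq_of_mul_eq_one_left h1
  have e2 : b⁻¹ = b := inv_eq_of_mul_eq_one_left h2
  have e3 : (a * b)⁻¹ = a * b := inv_eq_of_mul_eq_one_left h3
  rw [mul_inv_rev, e1, e2] at e3
  exact e3.symm

/-- conjugation by `y ^ i` -/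
def cj (y : S) (i : ℕ) (d : S) : S := y ^ i * d * (y ^ i)⁻¹

theorem cj_zero (d : S) : cj y 0 d = d := by simp [cj]

theorem cj_add (i j : ℕ) (d : S) : cj y (i + j) d = cj y i (cj y j d) := by
  unfold cj
  rw [pow_add, mul_inv_rev]
  group

theorem cj_mul (i : ℕ) (d e : S) : cj y i (d * e) = cj y i d * cj y i e := by
  unfold cj
  group

theorem cj_one (i : ℕ) : cj y i (1 : S) = 1 := by
  unfold cj
  rw [mul_one, mul_inv_cancel]

theorem cj_inj {i : ℕ} {d e : S} (h : cj y i d = cj y i e) : d = e := by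
  unfold cj at h
  exact mul_left_cancel (mul_right_cancel h)

theorem cj_mem (hy : Five D y) (i : ℕ) {d : S} (hd : d ∈ D) : cj y i d ∈ D := by
  induction i with
  | zero => rw [cj_zero]; exact hd
  | succ i ih =>
    rw [add_comm, cj_add]
    have := (hy.norm (cj y i d)).2 ih
    simpa [cj] using this

theorem finite_of (h : E16 D) : Finite D := Nat.finite_of_card_ne_zero (by rw [h.card]; norm_num)

/-- `y ^ 5` centralises `D` -/
theorem cj_five (h : E16 D) (hy : Five D y) {d : S} (hd : d ∈ D) : cj y 5 d = d := by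
  classical
  have := finite_of h
  let _ : Fintype D := Fintype.ofFinite D
  let c : D → D := fun d => ⟨cj y 1 d, cj_mem hy 1 d.2⟩
  have hc : ∀ n : ℕ, ∀ d : D, ((c^[n] d : D) : S) = cj y n d := by
    intro n
    induction n with
    | zero => intro d; exact (cj_zero _).symm
    | succ n ih =>
      intro d
      rw [Function.iterate_succ_apply', add_comm, cj_add]
      change cj y 1 ((c^[n] d : D) : S) = _
      rw [ih]
  obtain ⟨m, hm⟩ := hy.five
  have h1 : Function.IsPeriodicPt c (5 ^ m) ⟨d, hd⟩ := by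
    apply Subtype.ext
    rw [hc]
    unfold cj
    rw [← hm, pow_orderOf_eq_one, inv_one, one_mul, mul_one]
  obtain ⟨j, hj, e⟩ := (Nat.dvd_prime_pow (by norm_num : Nat.Prime 5)).1 h1.minimalPeriod_dvd
  have h2 : Function.minimalPeriod c ⟨d, hd⟩ ≤ 16 := by
    have := Function.minimalPeriod_le_card (f := c) (x := (⟨d, hd⟩ : D))
    rwa [← Nat.card_eq_fintype_card, h.card] at this
  have h3 : j ≤ 1 := by
    by_contra hcon
    have : 5 ^ 2 ≤ 5 ^ j := Nat.pow_le_pow_right (by norm_num) (by omega)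
    omega
  have h4 : Function.IsPeriodicPt c 5 ⟨d, hd⟩ := by
    have h5 : Function.minimalPeriod c ⟨d, hd⟩ ∣ 5 := by
      rw [e]
      exact (Nat.pow_dvd_pow 5 h3).trans (by norm_num)
    exact (Function.isPeriodicPt_minimalPeriod c _).trans_dvd h5
  have h5 := congrArg (fun z : D => (z : S)) h4
  change ((c^[5] ⟨d, hd⟩ : D) : S) = d at h5
  rwa [hc] at h5

/-- `y` has no fixed points -/
theorem eq_one_of_fix (h : E16 D) (hy : Five D y) {d : S} (hd : d ∈ D) (he : cj y 1 d = d) : d = 1 := by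
  by_contra h1
  rcases hy.irr (Subgroup.zpowers d) (by rwa [Subgroup.zpowers_le]) (by
    rintro _ ⟨k, rfl⟩
    refine ⟨k, ?_⟩
    have h2 : Commute y d := by
      unfold cj at he
      rw [pow_one] at he
      exact (mul_inv_eq_iff_eq_mul.1 he)
    change d ^ k = y * d ^ k * y⁻¹
    rw [(h2.zpow_right k).eq]
    group) with h2 | h2
  · exact h1 (Subgroup.zpowers_eq_bot.1 h2)
  · have h3 : Nat.card (Subgroup.zpowers d) = 16 := by rw [h2, h.card]
    rw [Nat.card_zpowers] at h3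
    have h4 : orderOf d ∣ 2 := orderOf_dvd_of_pow_eq_one (by rw [pow_two, h.inv d hd])
    rw [h3] at h4
    norm_num at h4

/-- the product of a `y`-orbit -/
theorem prod_orbit (h : E16 D) (hy : Five D y) {d : S} (hd : d ∈ D) :
    d * cj y 1 d * cj y 2 d * cj y 3 d * cj y 4 d = 1 := by
  have m : ∀ i, cj y i d ∈ D := fun i => cj_mem hy i hd
  have hm : d * cj y 1 d * cj y 2 d * cj y 3 d * cj y 4 d ∈ D :=
    D.mul_mem (D.mul_mem (D.mul_mem (D.mul_mem hd (m 1)) (m 2)) (m 3)) (m 4)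
  refine eq_one_of_fix h hy hm ?_
  simp only [cj_mul, ← cj_add]
  norm_num
  rw [cj_five h hy hd]
  exact (comm_of h _ (D.mul_mem (D.mul_mem (D.mul_mem (m 1) (m 2)) (m 3)) (m 4)) _ hd).trans (by simp only [mul_assoc])

theorem cj4 (h : E16 D) (hy : Five D y) {d : S} (hd : d ∈ D) :
    cj y 4 d = d * cj y 1 d * cj y 2 d * cj y 3 d := by
  have m : ∀ i, cj y i d ∈ D := fun i => cj_mem hy i hd
  have h1 := prod_orbit h hy hd
  have h2 := h.inv _ (D.mul_mem (D.mul_mem (D.mul_mem hd (m 1)) (m 2)) (m 3))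
  exact mul_left_cancel (h1.trans h2.symm)

/-- an orbit generates `D` -/
theorem closure_orbit (hy : Five D y) {d : S} (hd : d ∈ D) (h1 : d ≠ 1) :
    Subgroup.closure {e : S | ∃ i : ℕ, e = y ^ i * d * (y ^ i)⁻¹} = D := by
  have hle : Subgroup.closure {e : S | ∃ i : ℕ, e = y ^ i * d * (y ^ i)⁻¹} ≤ D := by
    rw [Subgroup.closure_le]
    rintro _ ⟨i, rfl⟩
    exact cj_mem hy i hd
  have hinv : ∀ a ∈ Subgroup.closure {e : S | ∃ i : ℕ, e = y ^ i * d * (y ^ i)⁻¹},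
      y * a * y⁻¹ ∈ Subgroup.closure {e : S | ∃ i : ℕ, e = y ^ i * d * (y ^ i)⁻¹} := by
    intro a ha
    induction ha using Subgroup.closure_induction with
    | mem a ha =>
      obtain ⟨i, rfl⟩ := ha
      refine Subgroup.subset_closure ⟨i + 1, ?_⟩
      rw [add_comm i 1, pow_add, pow_one, mul_inv_rev]
      group
    | one => rw [mul_one, mul_inv_cancel]; exact one_mem _
    | mul a b _ _ ha hb =>
      have : y * (a * b) * y⁻¹ = (y * a * y⁻¹) * (y * b * y⁻¹) := by group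
      rw [this]
      exact mul_mem ha hb
    | inv a _ ha =>
      have : y * a⁻¹ * y⁻¹ = (y * a * y⁻¹)⁻¹ := by group
      rw [this]
      exact inv_mem ha
  rcases hy.irr _ hle hinv with h2 | h2
  · exfalso
    apply h1
    have h3 : d ∈ Subgroup.closure {e : S | ∃ i : ℕ, e = y ^ i * d * (y ^ i)⁻¹} :=
      Subgroup.subset_closure ⟨0, by simp⟩
    rw [h2] at h3
    exact Subgroup.mem_bot.1 h3
  · exact h2

/-- the `y`-orbits on `D#`: three orbits of length 5, every one has product 1 and generates `D` (any four of its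
elements are a basis of `D`). -/
theorem D4 [Finite S] (h : E16 D) (hy : Five D y) :
    (∀ d ∈ D, y ^ 5 * d = d * y ^ 5) ∧ (∀ d ∈ D, d ≠ 1 → y * d ≠ d * y) ∧
    (∀ d ∈ D, d * (y * d * y⁻¹) * (y ^ 2 * d * (y ^ 2)⁻¹) * (y ^ 3 * d * (y ^ 3)⁻¹) * (y ^ 4 * d * (y ^ 4)⁻¹) = 1) ∧
    (∀ d ∈ D, d ≠ 1 → Subgroup.closure {e : S | ∃ i : ℕ, e = y ^ i * d * (y ^ i)⁻¹} = D) := by
  refine ⟨fun d hd => ?_, fun d hd h1 he => h1 (eq_one_of_fix h hy hd ?_), fun d hd => ?_, fun d hd h1 =>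
    closure_orbit hy hd h1⟩
  · have := cj_five h hy hd
    unfold cj at this
    exact mul_inv_eq_iff_eq_mul.1 this
  · unfold cj
    rw [pow_one, he, mul_inv_cancel_right]
  · have := prod_orbit h hy hd
    simpa only [cj, pow_one] using this

/-- the elements of `D` -/
theorem exists_word (h : E16 D) (hy : Five D y) {d : S} (hd : d ∈ D) (h1 : d ≠ 1) {e : S} (he : e ∈ D) :
    ∃ n0 n1 n2 n3 : Bool, e = d ^ n0.toNat * cj y 1 d ^ n1.toNat * cj y 2 d ^ n2.toNat * cj y 3 d ^ n3.toNat := by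
  have m : ∀ i, cj y i d ∈ D := fun i => cj_mem hy i hd
  have hc := comm_of h
  have key : ∀ a ∈ Subgroup.closure {e : S | ∃ i : ℕ, e = y ^ i * d * (y ^ i)⁻¹},
      ∃ n0 n1 n2 n3 : ℕ, a = d ^ n0 * cj y 1 d ^ n1 * cj y 2 d ^ n2 * cj y 3 d ^ n3 := by
    let K : Subgroup S :=
      { carrier := {a | ∃ n0 n1 n2 n3 : ℕ, a = d ^ n0 * cj y 1 d ^ n1 * cj y 2 d ^ n2 * cj y 3 d ^ n3}
        one_mem' := ⟨0, 0, 0, 0, by simp⟩
        mul_mem' := by
          rintro _ _ ⟨n0, n1, n2, n3, rfl⟩ ⟨m0, m1, m2, m3, rfl⟩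
          refine ⟨n0 + m0, n1 + m1, n2 + m2, n3 + m3, ?_⟩
          have c01 : Commute (cj y 1 d ^ n1) (d ^ m0) := Commute.pow_pow (hc _ (m 1) _ hd) _ _
          have c02 : Commute (cj y 2 d ^ n2) (d ^ m0) := Commute.pow_pow (hc _ (m 2) _ hd) _ _
          have c03 : Commute (cj y 3 d ^ n3) (d ^ m0) := Commute.pow_pow (hc _ (m 3) _ hd) _ _
          have c12 : Commute (cj y 2 d ^ n2) (cj y 1 d ^ m1) := Commute.pow_pow (hc _ (m 2) _ (m 1)) _ _
          have c13 : Commute (cj y 3 d ^ n3) (cj y 1 d ^ m1) := Commute.pow_pow (hc _ (m 3) _ (m 1)) _ _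
          have c23 : Commute (cj y 3 d ^ n3) (cj y 2 d ^ m2) := Commute.pow_pow (hc _ (m 3) _ (m 2)) _ _
          rw [pow_add, pow_add, pow_add, pow_add]
          calc d ^ n0 * cj y 1 d ^ n1 * cj y 2 d ^ n2 * cj y 3 d ^ n3 *
                (d ^ m0 * cj y 1 d ^ m1 * cj y 2 d ^ m2 * cj y 3 d ^ m3)
              = d ^ n0 * cj y 1 d ^ n1 * cj y 2 d ^ n2 * (cj y 3 d ^ n3 * d ^ m0) *
                (cj y 1 d ^ m1 * cj y 2 d ^ m2 * cj y 3 d ^ m3) := by simp only [mul_assoc]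
            _ = d ^ n0 * cj y 1 d ^ n1 * (cj y 2 d ^ n2 * d ^ m0) * cj y 3 d ^ n3 *
                (cj y 1 d ^ m1 * cj y 2 d ^ m2 * cj y 3 d ^ m3) := by rw [c03.eq]; simp only [mul_assoc]
            _ = d ^ n0 * (cj y 1 d ^ n1 * d ^ m0) * cj y 2 d ^ n2 * cj y 3 d ^ n3 *
                (cj y 1 d ^ m1 * cj y 2 d ^ m2 * cj y 3 d ^ m3) := by rw [c02.eq]; simp only [mul_assoc]
            _ = d ^ n0 * d ^ m0 * cj y 1 d ^ n1 * cj y 2 d ^ n2 * (cj y 3 d ^ n3 * cj y 1 d ^ m1) *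
                (cj y 2 d ^ m2 * cj y 3 d ^ m3) := by rw [c01.eq]; simp only [mul_assoc]
            _ = d ^ n0 * d ^ m0 * cj y 1 d ^ n1 * (cj y 2 d ^ n2 * cj y 1 d ^ m1) * cj y 3 d ^ n3 *
                (cj y 2 d ^ m2 * cj y 3 d ^ m3) := by rw [c13.eq]; simp only [mul_assoc]
            _ = d ^ n0 * d ^ m0 * cj y 1 d ^ n1 * cj y 1 d ^ m1 * cj y 2 d ^ n2 * (cj y 3 d ^ n3 *
                cj y 2 d ^ m2) * cj y 3 d ^ m3 := by rw [c12.eq]; simp only [mul_assoc]
            _ = _ := by rw [c23.eq]; simp only [mul_assoc]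
        inv_mem' := by
          rintro a ⟨n0, n1, n2, n3, rfl⟩
          refine ⟨n0, n1, n2, n3, ?_⟩
          exact inv_eq_of_mul_eq_one_left (h.inv _ (D.mul_mem (D.mul_mem (D.mul_mem (D.pow_mem hd _)
            (D.pow_mem (m 1) _)) (D.pow_mem (m 2) _)) (D.pow_mem (m 3) _))) }
    have hle : Subgroup.closure {e : S | ∃ i : ℕ, e = y ^ i * d * (y ^ i)⁻¹} ≤ K := by
      rw [Subgroup.closure_le]
      rintro _ ⟨i, rfl⟩
      change cj y i d ∈ K
      have h5 : ∀ i, cj y (i + 5) d = cj y i d := fun i => by rw [cj_add, cj_five h hy hd]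
      induction i using Nat.strong_induction_on with
      | _ i ih =>
        rcases Nat.lt_or_ge i 5 with hi | hi
        · interval_cases i
          · exact ⟨1, 0, 0, 0, by simp [cj_zero]⟩
          · exact ⟨0, 1, 0, 0, by simp⟩
          · exact ⟨0, 0, 1, 0, by simp⟩
          · exact ⟨0, 0, 0, 1, by simp⟩
          · exact ⟨1, 1, 1, 1, by simp [cj4 h hy hd]⟩
        · have := ih (i - 5) (by omega)
          rw [← h5, Nat.sub_add_cancel hi] at this
          exact this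
    exact fun a ha => hle ha
  have h2 : e ∈ Subgroup.closure {e : S | ∃ i : ℕ, e = y ^ i * d * (y ^ i)⁻¹} := by
    rw [closure_orbit hy hd h1]
    exact he
  obtain ⟨n0, n1, n2, n3, e0⟩ := key e h2
  have red : ∀ a ∈ D, ∀ n : ℕ, ∃ b : Bool, a ^ n = a ^ b.toNat := by
    intro a ha n
    rcases Nat.even_or_odd' n with ⟨k, rfl | rfl⟩
    · exact ⟨false, by rw [pow_mul, pow_two, h.inv a ha, one_pow, Bool.toNat_false, pow_zero]⟩
    · exact ⟨true, by rw [pow_add, pow_mul, pow_two, h.inv a ha, one_pow, one_mul, Bool.toNat_true]⟩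
  obtain ⟨b0, e1⟩ := red d hd n0
  obtain ⟨b1, e2⟩ := red _ (m 1) n1
  obtain ⟨b2, e3⟩ := red _ (m 2) n2
  obtain ⟨b3, e4⟩ := red _ (m 3) n3
  exact ⟨b0, b1, b2, b3, by rw [e0, e1, e2, e3, e4]⟩

/-- the three orbits -/
theorem orbits (h : E16 D) (hy : Five D y) {d : S} (hd : d ∈ D) (h1 : d ≠ 1) {e : S} (he : e ∈ D) (he1 : e ≠ 1) :
    ∃ i : ℕ, e = cj y i d ∨ e = cj y i (d * cj y 1 d) ∨ e = cj y i (d * cj y 2 d) := by
  have m : ∀ i, cj y i d ∈ D := fun i => cj_mem hy i hd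
  obtain ⟨n0, n1, n2, n3, e0⟩ := exists_word h hy hd h1 he
  have h4 := cj4 h hy hd
  have h5 : ∀ i, cj y (i + 5) d = cj y i d := fun i => by rw [cj_add, cj_five h hy hd]
  have hs : ∀ i, cj y i d * cj y i d = 1 := fun i => h.inv _ (m i)
  have hc : ∀ i j, cj y i d * cj y j d = cj y j d * cj y i d := fun i j => comm_of h _ (m i) _ (m j)
  -- products with the fifth element
  have e34 : cj y 3 d * cj y 4 d = d * cj y 1 d * cj y 2 d := by
    rw [h4, ← comm_of h _ (D.mul_mem (D.mul_mem (D.mul_mem hd (m 1)) (m 2)) (m 3)) _ (m 3), mul_assoc, hs, mul_one]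
  have e40 : cj y 4 d * cj y 5 d = cj y 1 d * cj y 2 d * cj y 3 d := by
    rw [cj_five h hy hd, ← comm_of h _ hd _ (m 4), h4]
    simp only [← mul_assoc]
    rw [h.inv d hd, one_mul]
  have e24 : cj y 2 d * cj y 4 d = d * cj y 1 d * cj y 3 d := by
    rw [h4]
    have h6 : d * cj y 1 d * cj y 2 d * cj y 3 d = cj y 2 d * (d * cj y 1 d * cj y 3 d) := by
      rw [← mul_assoc, ← comm_of h _ (D.mul_mem hd (m 1)) _ (m 2)]
    rw [h6, ← mul_assoc, hs, one_mul]
  have e41 : cj y 4 d * cj y 6 d = d * cj y 2 d * cj y 3 d := by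
    rw [show (6 : ℕ) = 1 + 5 from rfl, h5, hc 4 1, h4]
    have h6 : d * cj y 1 d * cj y 2 d * cj y 3 d = cj y 1 d * (d * cj y 2 d * cj y 3 d) := by
      rw [comm_of h _ hd _ (m 1)]
      simp only [mul_assoc]
    rw [h6, ← mul_assoc, hs, one_mul]
  simp only [cj_mul, ← cj_add]
  cases n0 <;> cases n1 <;> cases n2 <;> cases n3 <;>
    simp only [Bool.toNat_true, Bool.toNat_false, pow_zero, pow_one, one_mul, mul_one] at e0
  · exact absurd e0 he1
  · exact ⟨3, Or.inl e0⟩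
  · exact ⟨2, Or.inl e0⟩
  · exact ⟨2, Or.inr (Or.inl e0)⟩
  · exact ⟨1, Or.inl e0⟩
  · exact ⟨1, Or.inr (Or.inr e0)⟩
  · exact ⟨1, Or.inr (Or.inl e0)⟩
  · exact ⟨4, Or.inr (Or.inl (e0.trans e40.symm))⟩
  · exact ⟨0, Or.inl (by rw [cj_zero]; exact e0)⟩
  · refine ⟨3, Or.inr (Or.inr ?_)⟩
    rw [show (3 + 2 : ℕ) = 5 from rfl, cj_five h hy hd, ← comm_of h _ hd _ (m 3)]
    exact e0
  · exact ⟨0, Or.inr (Or.inr (by rw [cj_zero]; exact e0))⟩
  · exact ⟨4, Or.inr (Or.inr (e0.trans e41.symm))⟩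
  · exact ⟨0, Or.inr (Or.inl (by rw [cj_zero]; exact e0))⟩
  · exact ⟨2, Or.inr (Or.inr (e0.trans e24.symm))⟩
  · exact ⟨3, Or.inr (Or.inl (e0.trans e34.symm))⟩
  · exact ⟨4, Or.inl (e0.trans h4.symm)⟩

end

end Cfsg.Agent.H200.KS
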