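import Mathlib
import Cfsg.Agent.H613.KS.Defs
import Cfsg.Agent.H200.KS.Orb

/-!
# S4577: the trace formula (helper200)
-/

set_option autoImplicit false

open Cfsg Cfsg.Agent.H613.KS

universe u

namespace Cfsg.Agent.H200.KS

section lin

variable {k : Type*} [Field k] {V : Type*} [AddCommGroup V] [Module k V]

/-- the sign -/
def sg (k : Type*) [Field k] (b : Bool) : k := if b then -1 else 1

theorem sg_xor (a b : Bool) : sg k (xor a b) = sg k a * sg k b := by
  cases a <;> cases b <;> simp [sg]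

theorem sg_mul_self (a : Bool) : sg k a * sg k a = 1 := by
  cases a <;> simp [sg]

/-- eigenspace -/
def eg (T : Module.End k V) (b : Bool) : Submodule k V := LinearMap.ker (T - algebraMap k _ (sg k b))

theorem mem_eg {T : Module.End k V} {b : Bool} {v : V} : v ∈ eg T b ↔ T v = sg k b • v := by
  unfold eg
  rw [LinearMap.mem_ker, LinearMap.sub_apply, Module.algebraMap_end_apply, sub_eq_zero]

theorem eg_true (T : Module.End k V) : LinearMap.ker (T + 1) = eg T true := by
  ext v
  rw [mem_eg, LinearMap.mem_ker, LinearMap.add_apply, Module.End.one_apply]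
  simp only [sg, if_true, neg_smul, one_smul]
  rw [add_eq_zero_iff_eq_neg]

theorem eg_false (T : Module.End k V) : LinearMap.ker (T - 1) = eg T false := by
  ext v
  rw [mem_eg, LinearMap.mem_ker, LinearMap.sub_apply, Module.End.one_apply]
  simp only [sg, Bool.false_eq_true, if_false, one_smul]
  rw [sub_eq_zero]

theorem eg_disj (h2 : (2 : k) ≠ 0) {T : Module.End k V} {a b : Bool} (hab : a ≠ b) {v : V} (h : v ∈ eg T a)
    (h' : v ∈ eg T b) : v = 0 := by
  rw [mem_eg] at h h'
  rw [h] at h'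
  have h3 : (2 : k) • v = 0 := by
    rw [two_smul]
    cases a <;> cases b <;> simp only [sg, if_true, Bool.false_eq_true, if_false, one_smul, neg_smul, ne_eq,
      not_true_eq_false] at hab h'
    · nth_rw 1 [h']
      exact neg_add_cancel v
    · nth_rw 1 [← h']
      exact neg_add_cancel v
  exact (smul_eq_zero.1 h3).resolve_left h2

variable [FiniteDimensional k V]

theorem split (h2 : (2 : k) ≠ 0) {T : Module.End k V} (hT : T * T = 1) (U : Submodule k V)
    (hU : ∀ v ∈ U, T v ∈ U) : Module.finrank k ↥U =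
      Module.finrank k ↥(U ⊓ eg T false) + Module.finrank k ↥(U ⊓ eg T true) := by
  have hTT : ∀ v, T (T v) = v := fun v => by
    rw [← Module.End.mul_apply, hT, Module.End.one_apply]
  have e1 : (U ⊓ eg T false) ⊔ (U ⊓ eg T true) = U := by
    apply le_antisymm (sup_le inf_le_left inf_le_left)
    intro v hv
    have hTv := hU v hv
    rw [Submodule.mem_sup]
    refine ⟨(2 : k)⁻¹ • (v + T v), ⟨U.smul_mem _ (U.add_mem hv hTv), ?_⟩, (2 : k)⁻¹ • (v - T v),
      ⟨U.smul_mem _ (U.sub_mem hv hTv), ?_⟩, ?_⟩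
    · rw [SetLike.mem_coe, mem_eg]
      simp only [sg, Bool.false_eq_true, if_false, one_smul, map_smul, map_add, hTT]
      rw [add_comm]
    · rw [SetLike.mem_coe, mem_eg]
      simp only [sg, if_true, neg_smul, one_smul, map_smul, map_sub, hTT]
      rw [← smul_neg, neg_sub]
    · rw [← smul_add, add_add_sub_cancel, ← two_smul k v, smul_smul, inv_mul_cancel₀ h2, one_smul]
  have e2 : (U ⊓ eg T false) ⊓ (U ⊓ eg T true) = ⊥ := by
    rw [Submodule.eq_bot_iff]
    rintro v ⟨⟨_, h3⟩, ⟨_, h4⟩⟩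
    exact eg_disj h2 (by simp) h3 h4
  have h3 := Submodule.finrank_sup_add_finrank_inf_eq (U ⊓ eg T false) (U ⊓ eg T true)
  rw [e1, e2, finrank_bot, add_zero] at h3
  exact h3

/-- the weight space -/
def W (T : ℕ → Module.End k V) (a b c d : Bool) : Submodule k V := eg (T 0) a ⊓ eg (T 1) b ⊓ eg (T 2) c ⊓ eg (T 3) d

omit [FiniteDimensional k V] in
theorem mem_W {T : ℕ → Module.End k V} {a b c d : Bool} {v : V} : v ∈ W T a b c d ↔
    T 0 v = sg k a • v ∧ T 1 v = sg k b • v ∧ T 2 v = sg k c • v ∧ T 3 v = sg k d • v := by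
  unfold W
  simp only [Submodule.mem_inf, mem_eg, and_assoc]

theorem decomp (h2 : (2 : k) ≠ 0) {T : ℕ → Module.End k V} (hT : ∀ i, T i * T i = 1)
    (hc : ∀ i j, T i * T j = T j * T i) (U : Submodule k V)
    (hU : ∀ i, ∀ v ∈ U, T i v ∈ U) : Module.finrank k ↥U =
      ∑ a : Bool, ∑ b : Bool, ∑ c : Bool, ∑ d : Bool, Module.finrank k ↥(U ⊓ W T a b c d) := by
  have st : ∀ X : Submodule k V, (∀ i, ∀ v ∈ X, T i v ∈ X) → ∀ j s, ∀ i, ∀ v ∈ X ⊓ eg (T j) s, T i v ∈ X ⊓ eg (T j) s := by
    rintro X hX j s i v ⟨h3, h4⟩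
    refine ⟨hX i v h3, ?_⟩
    rw [SetLike.mem_coe, mem_eg] at h4 ⊢
    rw [← Module.End.mul_apply, hc, Module.End.mul_apply, h4, map_smul]
  have sp : ∀ X : Submodule k V, (∀ i, ∀ v ∈ X, T i v ∈ X) → ∀ j, Module.finrank k ↥X =
      ∑ s : Bool, Module.finrank k ↥(X ⊓ eg (T j) s) := by
    intro X hX j
    rw [split h2 (hT j) X (hX j), Fintype.sum_bool, add_comm]
  rw [sp U hU 0]
  refine Finset.sum_congr rfl fun a _ => ?_
  rw [sp _ (st U hU 0 a) 1]
  refine Finset.sum_congr rfl fun b _ => ?_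
  rw [sp _ (st _ (st U hU 0 a) 1 b) 2]
  refine Finset.sum_congr rfl fun c _ => ?_
  rw [sp _ (st _ (st _ (st U hU 0 a) 1 b) 2 c) 3]
  refine Finset.sum_congr rfl fun d _ => ?_
  have e : U ⊓ W T a b c d = U ⊓ eg (T 0) a ⊓ eg (T 1) b ⊓ eg (T 2) c ⊓ eg (T 3) d := by
    unfold W
    simp only [inf_assoc]
  rw [e]

omit [FiniteDimensional k V] in
theorem fr (h2 : (2 : k) ≠ 0) {T : ℕ → Module.End k V} {R : Module.End k V} {a b c d s : Bool}
    (hs : ∀ v ∈ W T a b c d, R v = sg k s • v) : Module.finrank k ↥(eg R true ⊓ W T a b c d) =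
      if s then Module.finrank k ↥(W T a b c d) else 0 := by
  cases s with
  | true =>
    rw [if_pos rfl, inf_eq_right.2]
    intro v hv
    exact mem_eg.2 (hs v hv)
  | false =>
    rw [if_neg (by simp)]
    have : eg R true ⊓ W T a b c d = ⊥ := by
      rw [Submodule.eq_bot_iff]
      rintro v ⟨h3, h4⟩
      exact eg_disj h2 (by simp) h3 (mem_eg.2 (hs v h4))
    rw [this, finrank_bot]

theorem dim_eg (h2 : (2 : k) ≠ 0) {T : ℕ → Module.End k V} (hT : ∀ i, T i * T i = 1)
    (hc : ∀ i j, T i * T j = T j * T i) {R : Module.End k V} (hR : ∀ i, R * T i = T i * R)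
    (s : Bool → Bool → Bool → Bool → Bool)
    (hs : ∀ a b c d, ∀ v ∈ W T a b c d, R v = sg k (s a b c d) • v) : Module.finrank k ↥(eg R true) =
      ∑ a : Bool, ∑ b : Bool, ∑ c : Bool, ∑ d : Bool, if s a b c d then Module.finrank k ↥(W T a b c d) else 0 := by
  rw [decomp h2 hT hc (eg R true) (fun i v hv => by
    rw [mem_eg] at hv ⊢
    rw [← Module.End.mul_apply, hR, Module.End.mul_apply, hv, map_smul])]
  refine Finset.sum_congr rfl fun a _ => Finset.sum_congr rfl fun b _ => Finset.sum_congr rfl fun c _ =>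
    Finset.sum_congr rfl fun d _ => fr h2 (hs a b c d)

theorem le_tau {T : ℕ → Module.End k V}
    (hp : T 0 = T 1 * T 2 * T 3 * T 4)
    {Y Y' : Module.End k V} (hY : Y' * Y = 1) (hYT : ∀ i, T (i + 1) * Y = Y * T i) (a b c d : Bool) :
    Module.finrank k ↥(W T a b c d) ≤ Module.finrank k ↥(W T (xor (xor (xor a b) c) d) a b c) := by
  have hinj : Function.Injective Y := by
    intro v w hvw
    have := congrArg Y' hvw
    rwa [← Module.End.mul_apply, ← Module.End.mul_apply, hY, Module.End.one_apply, Module.End.one_apply] at this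
  have hm : ∀ v ∈ W T a b c d, Y v ∈ W T (xor (xor (xor a b) c) d) a b c := by
    intro v hv
    rw [mem_W] at hv
    obtain ⟨e0, e1, e2, e3⟩ := hv
    have f : ∀ i s, T i v = sg k s • v → T (i + 1) (Y v) = sg k s • Y v := by
      intro i s hi
      rw [← Module.End.mul_apply, hYT, Module.End.mul_apply, hi, map_smul]
    have f0 := f 0 a e0
    have f1 := f 1 b e1
    have f2 := f 2 c e2
    have f3 := f 3 d e3
    rw [zero_add] at f0
    norm_num at f1 f2 f3
    rw [mem_W]
    refine ⟨?_, f0, f1, f2⟩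
    rw [hp, Module.End.mul_apply, Module.End.mul_apply, Module.End.mul_apply]
    simp only [f3, f2, f1, f0, map_smul, smul_smul, sg_xor]
    congr 1
    ring
  exact LinearMap.finrank_le_finrank_of_injective (f := Y.restrict hm) (fun v w hvw => by
    apply Subtype.ext
    apply hinj
    exact congrArg (fun z : ↥(W T (xor (xor (xor a b) c) d) a b c) => (z : V)) hvw)

/-- the dimensions of the weight spaces -/
theorem orb_dims {T : ℕ → Module.End k V} (hp : T 0 = T 1 * T 2 * T 3 * T 4)
    {Y Y' : Module.End k V} (hY : Y' * Y = 1) (hYT : ∀ i, T (i + 1) * Y = Y * T i) :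
    ∃ α1 α2 α3 : ℕ,
      (Module.finrank k ↥(W T true false false false) = α1 ∧ Module.finrank k ↥(W T true true false false) = α1 ∧
       Module.finrank k ↥(W T false true true false) = α1 ∧ Module.finrank k ↥(W T false false true true) = α1 ∧
       Module.finrank k ↥(W T false false false true) = α1) ∧
      (Module.finrank k ↥(W T false true false false) = α2 ∧ Module.finrank k ↥(W T true false true false) = α2 ∧
       Module.finrank k ↥(W T false true false true) = α2 ∧ Module.finrank k ↥(W T false false true false) = α2 ∧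
       Module.finrank k ↥(W T true false false true) = α2) ∧
      (Module.finrank k ↥(W T true true true false) = α3 ∧ Module.finrank k ↥(W T true true true true) = α3 ∧
       Module.finrank k ↥(W T false true true true) = α3 ∧ Module.finrank k ↥(W T true false true true) = α3 ∧
       Module.finrank k ↥(W T true true false true) = α3) := by
  have l := fun a b c d => le_tau hp hY hYT a b c d
  have a1 : Module.finrank k ↥(W T true false false false) ≤
      Module.finrank k ↥(W T true true false false) := l true false false false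
  have a2 : Module.finrank k ↥(W T true true false false) ≤
      Module.finrank k ↥(W T false true true false) := l true true false false
  have a3 : Module.finrank k ↥(W T false true true false) ≤
      Module.finrank k ↥(W T false false true true) := l false true true false
  have a4 : Module.finrank k ↥(W T false false true true) ≤
      Module.finrank k ↥(W T false false false true) := l false false true true
  have a5 : Module.finrank k ↥(W T false false false true) ≤
      Module.finrank k ↥(W T true false false false) := l false false false true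
  have b1 : Module.finrank k ↥(W T false true false false) ≤
      Module.finrank k ↥(W T true false true false) := l false true false false
  have b2 : Module.finrank k ↥(W T true false true false) ≤
      Module.finrank k ↥(W T false true false true) := l true false true false
  have b3 : Module.finrank k ↥(W T false true false true) ≤
      Module.finrank k ↥(W T false false true false) := l false true false true
  have b4 : Module.finrank k ↥(W T false false true false) ≤
      Module.finrank k ↥(W T true false false true) := l false false true false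
  have b5 : Module.finrank k ↥(W T true false false true) ≤
      Module.finrank k ↥(W T false true false false) := l true false false true
  have c1 : Module.finrank k ↥(W T true true true false) ≤
      Module.finrank k ↥(W T true true true true) := l true true true false
  have c2 : Module.finrank k ↥(W T true true true true) ≤
      Module.finrank k ↥(W T false true true true) := l true true true true
  have c3 : Module.finrank k ↥(W T false true true true) ≤
      Module.finrank k ↥(W T true false true true) := l false true true true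
  have c4 : Module.finrank k ↥(W T true false true true) ≤
      Module.finrank k ↥(W T true true false true) := l true false true true
  have c5 : Module.finrank k ↥(W T true true false true) ≤
      Module.finrank k ↥(W T true true true false) := l true true false true
  refine ⟨_, _, _, ⟨rfl, ?_, ?_, ?_, ?_⟩, ⟨rfl, ?_, ?_, ?_, ?_⟩, ⟨rfl, ?_, ?_, ?_, ?_⟩⟩ <;> omega

end lin

section rep

variable {S : Type u} [Group S] {D : Subgroup S} {y : S}

theorem cj_five_mul (h : E16 D) (hy : Five D y) {d : S} (hd : d ∈ D) (i : ℕ) : cj y (5 * i) d = d := by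
  induction i with
  | zero => rw [mul_zero, cj_zero]
  | succ i ih => rw [Nat.mul_succ, cj_add, cj_five h hy hd, ih]

/-- being in one orbit -/
theorem same_orb (h : E16 D) (hy : Five D y) {e d2 d3 : S} (he : e ∈ D) {i j : ℕ} (e2 : d2 = cj y i e)
    (e3 : d3 = cj y j e) : ∃ m : ℕ, d3 = cj y m d2 := by
  refine ⟨j + 4 * i, ?_⟩
  have e4 : cj y (4 * i) (cj y i e) = e := by
    rw [← cj_add, ← Nat.succ_mul]
    exact cj_five_mul h hy he i
  rw [e2, e3, cj_add, e4]

variable {k : Type*} [Field k] {V : Type*} [AddCommGroup V] [Module k V]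

theorem dim_conj_le [FiniteDimensional k V] (ρ : S →* Module.End k V) (g e : S) :
    Module.finrank k ↥(eg (ρ e) true) ≤ Module.finrank k ↥(eg (ρ (g * e * g⁻¹)) true) := by
  have hg : ∀ v, ρ g⁻¹ (ρ g v) = v := fun v => by
    rw [← Module.End.mul_apply, ← map_mul, inv_mul_cancel, map_one, Module.End.one_apply]
  have hm : ∀ v ∈ eg (ρ e) true, ρ g v ∈ eg (ρ (g * e * g⁻¹)) true := by
    intro v hv
    rw [mem_eg] at hv ⊢
    rw [map_mul, map_mul, Module.End.mul_apply, Module.End.mul_apply, hg, hv, map_smul]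
  refine LinearMap.finrank_le_finrank_of_injective (f := (ρ g).restrict hm) (fun v w hvw => ?_)
  have h1 : ρ g (v : V) = ρ g (w : V) := congrArg (fun z : ↥(eg (ρ (g * e * g⁻¹)) true) => (z : V)) hvw
  have h2 := congrArg (ρ g⁻¹) h1
  rw [hg, hg] at h2
  exact Subtype.ext h2

theorem dim_conj [FiniteDimensional k V] (ρ : S →* Module.End k V) (i : ℕ) (e : S) :
    Module.finrank k ↥(eg (ρ (cj y i e)) true) = Module.finrank k ↥(eg (ρ e) true) := by
  apply le_antisymm _ (dim_conj_le ρ (y ^ i) e)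
  have := dim_conj_le ρ (y ^ i)⁻¹ (cj y i e)
  have e1 : (y ^ i)⁻¹ * cj y i e * ((y ^ i)⁻¹)⁻¹ = e := by
    unfold cj
    group
  rwa [e1] at this

/-- a vector which is an eigenvector for the four generators -/
theorem eig_all (h : E16 D) (hy : Five D y) {d : S} (hd : d ∈ D) (h1 : d ≠ 1) (ρ : S →* Module.End k V)
    (l : D →* ℤˣ) {v : V}
    (hv : ∀ i : ℕ, ρ (cj y i d) v = (((l ⟨cj y i d, cj_mem hy i hd⟩ : ℤˣ) : ℤ) : k) • v) (e : D) :
    ρ (e : S) v = (((l e : ℤˣ) : ℤ) : k) • v := by
  have pm : ∀ e f : D, ρ (e : S) v = (((l e : ℤˣ) : ℤ) : k) • v → ρ (f : S) v = (((l f : ℤˣ) : ℤ) : k) • v →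
      ρ ((e * f : D) : S) v = (((l (e * f) : ℤˣ) : ℤ) : k) • v := by
    intro e f he hf
    rw [Subgroup.coe_mul, map_mul, Module.End.mul_apply, hf, map_smul, he, smul_smul, map_mul, Units.val_mul,
      Int.cast_mul, mul_comm]
  have p1 : ρ ((1 : D) : S) v = (((l 1 : ℤˣ) : ℤ) : k) • v := by
    rw [map_one, Subgroup.coe_one, map_one, Units.val_one, Int.cast_one, one_smul, Module.End.one_apply]
  have pp : ∀ (b : Bool) (i : ℕ), ρ (((⟨cj y i d, cj_mem hy i hd⟩ : D) ^ b.toNat : D) : S) v =
      (((l ((⟨cj y i d, cj_mem hy i hd⟩ : D) ^ b.toNat) : ℤˣ) : ℤ) : k) • v := by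
    intro b i
    cases b with
    | false => rw [Bool.toNat_false, pow_zero]; exact p1
    | true => rw [Bool.toNat_true, pow_one]; exact hv i
  obtain ⟨n0, n1, n2, n3, e0⟩ := exists_word h hy hd h1 e.2
  have e1 : e = (⟨cj y 0 d, cj_mem hy 0 hd⟩ : D) ^ n0.toNat * (⟨cj y 1 d, cj_mem hy 1 hd⟩ : D) ^ n1.toNat *
      (⟨cj y 2 d, cj_mem hy 2 hd⟩ : D) ^ n2.toNat * (⟨cj y 3 d, cj_mem hy 3 hd⟩ : D) ^ n3.toNat := by
    apply Subtype.ext
    simp only [Subgroup.coe_mul, Subgroup.coe_pow, cj_zero]
    exact e0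
  rw [e1]
  exact pm _ _ (pm _ _ (pm _ _ (pp n0 0) (pp n1 1)) (pp n2 2)) (pp n3 3)

/-- weight spaces of a character of `D` -/
theorem inf_eq_W (h : E16 D) (hy : Five D y) {d : S} (hd : d ∈ D) (h1 : d ≠ 1) (ρ : S →* Module.End k V)
    (l : D →* ℤˣ) : ∃ a0 a1 a2 a3 : Bool, (a0 = false → a1 = false → a2 = false → a3 = false → l = 1) ∧
      (l = 1 → a0 = false ∧ a1 = false ∧ a2 = false ∧ a3 = false) ∧
      (⨅ e : D, LinearMap.ker (ρ (e : S) - algebraMap k _ (((l e : ℤ)) : k))) =
        W (fun i => ρ (cj y i d)) a0 a1 a2 a3 := by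
  classical
  have hs : ∀ i : ℕ, ∃ a : Bool, (((l ⟨cj y i d, cj_mem hy i hd⟩ : ℤˣ) : ℤ) : k) = sg k a ∧
      (a = false → l ⟨cj y i d, cj_mem hy i hd⟩ = 1) ∧ (l ⟨cj y i d, cj_mem hy i hd⟩ = 1 → a = false) := by
    intro i
    rcases Int.units_eq_one_or (l ⟨cj y i d, cj_mem hy i hd⟩) with h3 | h3
    · exact ⟨false, by rw [h3]; simp [sg], fun _ => h3, fun _ => rfl⟩
    · refine ⟨true, by rw [h3]; simp [sg], fun h4 => by simp at h4, fun h4 => ?_⟩
      rw [h3] at h4
      exact absurd h4 (by decide)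
  choose a ha1 ha2 ha3 using hs
  refine ⟨a 0, a 1, a 2, a 3, fun f0 f1 f2 f3 => ?_, fun hl => ?_, ?_⟩
  · ext e
    obtain ⟨n0, n1, n2, n3, e0⟩ := exists_word h hy hd h1 e.2
    have e1 : e = (⟨cj y 0 d, cj_mem hy 0 hd⟩ : D) ^ n0.toNat * (⟨cj y 1 d, cj_mem hy 1 hd⟩ : D) ^ n1.toNat *
        (⟨cj y 2 d, cj_mem hy 2 hd⟩ : D) ^ n2.toNat * (⟨cj y 3 d, cj_mem hy 3 hd⟩ : D) ^ n3.toNat := by
      apply Subtype.ext
      simp only [Subgroup.coe_mul, Subgroup.coe_pow, cj_zero]
      exact e0
    rw [e1, map_mul, map_mul, map_mul, map_pow, map_pow, map_pow, map_pow, ha2 0 f0, ha2 1 f1, ha2 2 f2, ha2 3 f3]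
    simp
  · have : ∀ i, a i = false := fun i => ha3 i (by rw [hl]; rfl)
    exact ⟨this 0, this 1, this 2, this 3⟩
  · have key : ∀ v : V, v ∈ (⨅ e : D, LinearMap.ker (ρ (e : S) - algebraMap k _ (((l e : ℤ)) : k))) ↔
        ∀ e : D, ρ (e : S) v = (((l e : ℤˣ) : ℤ) : k) • v := by
      intro v
      rw [Submodule.mem_iInf]
      refine forall_congr' fun e => ?_
      rw [LinearMap.mem_ker, LinearMap.sub_apply, Module.algebraMap_end_apply, sub_eq_zero]
    ext v
    rw [key, mem_W]
    constructor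
    · intro hv
      have : ∀ i, ρ (cj y i d) v = sg k (a i) • v := fun i => by
        rw [← ha1 i]
        exact hv ⟨cj y i d, cj_mem hy i hd⟩
      exact ⟨this 0, this 1, this 2, this 3⟩
    · rintro ⟨f0, f1, f2, f3⟩
      refine eig_all h hy hd h1 ρ l ?_
      -- the fifth element
      have g4 : ρ (cj y 4 d) v = (((l ⟨cj y 4 d, cj_mem hy 4 hd⟩ : ℤˣ) : ℤ) : k) • v := by
        have e4 : (⟨cj y 4 d, cj_mem hy 4 hd⟩ : D) = ⟨cj y 0 d, cj_mem hy 0 hd⟩ * ⟨cj y 1 d, cj_mem hy 1 hd⟩ *
            ⟨cj y 2 d, cj_mem hy 2 hd⟩ * ⟨cj y 3 d, cj_mem hy 3 hd⟩ := by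
          apply Subtype.ext
          simp only [Subgroup.coe_mul, cj_zero]
          exact cj4 h hy hd
        rw [e4, map_mul, map_mul, map_mul, Units.val_mul, Units.val_mul, Units.val_mul, Int.cast_mul, Int.cast_mul,
          Int.cast_mul, ha1, ha1, ha1, ha1, cj4 h hy hd, map_mul, map_mul, map_mul]
        simp only [cj_zero] at f0
        simp only [Module.End.mul_apply, f3, f2, f1, f0, map_smul, smul_smul]
        congr 1
        ring
      intro i
      induction i using Nat.strong_induction_on with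
      | _ i ih =>
        rcases Nat.lt_or_ge i 5 with hi | hi
        · interval_cases i
          · rw [ha1]; exact f0
          · rw [ha1]; exact f1
          · rw [ha1]; exact f2
          · rw [ha1]; exact f3
          · exact g4
        · have e5 : cj y i d = cj y (i - 5) d := by
            conv_lhs => rw [← Nat.sub_add_cancel hi]
            rw [cj_add, cj_five h hy hd]
          have e6 : (⟨cj y i d, cj_mem hy i hd⟩ : D) = ⟨cj y (i - 5) d, cj_mem hy (i - 5) hd⟩ := Subtype.ext e5
          rw [e6, e5]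
          exact ih (i - 5) (by omega)

end rep

/-- **the trace formula**: `ρ` a representation over a field of characteristic not 2, `m g = dim V − dim C_V(g)`
(the dimension of the (−1)-eigenspace of an involution g). Three y-orbit representatives d1 d2 d3 of D#. -/
theorem TR {S : Type u} [Group S] [Finite S] {D : Subgroup S} (h : E16 D) {y : S} (hy : Five D y)
    {k : Type*} [Field k] (h2 : (2 : k) ≠ 0) {V : Type*} [AddCommGroup V] [Module k V] [FiniteDimensional k V]
    (ρ : S →* Module.End k V) {d1 d2 d3 : S} (h1 : d1 ∈ D) (h2' : d2 ∈ D) (h3 : d3 ∈ D) (n1 : d1 ≠ 1) (n2 : d2 ≠ 1)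
    (n3 : d3 ≠ 1) (h12 : ∀ i : ℕ, d2 ≠ y ^ i * d1 * (y ^ i)⁻¹) (h13 : ∀ i : ℕ, d3 ≠ y ^ i * d1 * (y ^ i)⁻¹)
    (h23 : ∀ i : ℕ, d3 ≠ y ^ i * d2 * (y ^ i)⁻¹) :
    ∃ A a1 a2 a3 : ℕ, Module.finrank k ↥(LinearMap.ker (ρ d1 + 1)) = 2 * (A + a1) ∧
      Module.finrank k ↥(LinearMap.ker (ρ d2 + 1)) = 2 * (A + a2) ∧
      Module.finrank k ↥(LinearMap.ker (ρ d3 + 1)) = 2 * (A + a3) ∧ A = a1 + a2 + a3 ∧
      Module.finrank k V = Module.finrank k ↥(⨅ d ∈ D, LinearMap.ker (ρ d - 1)) + 5 * A ∧
      (∀ l : D →* ℤˣ, l ≠ 1 → ∃ a ∈ ({a1, a2, a3} : Set ℕ),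
        Module.finrank k ↥(⨅ d : D, LinearMap.ker (ρ (d : S) - algebraMap k _ (((l d : ℤ)) : k))) = a) := by
  classical
  obtain ⟨T, hTdef⟩ : ∃ T : ℕ → Module.End k V, T = fun i => ρ (cj y i d1) := ⟨_, rfl⟩
  have hTi : ∀ i, T i = ρ (cj y i d1) := fun i => by rw [hTdef]
  have m : ∀ i, cj y i d1 ∈ D := fun i => cj_mem hy i h1
  have hT : ∀ i, T i * T i = 1 := fun i => by
    rw [hTi, ← map_mul, h.inv _ (m i), map_one]
  have hc : ∀ i j, T i * T j = T j * T i := fun i j => by
    rw [hTi, hTi, ← map_mul, ← map_mul, comm_of h _ (m i) _ (m j)]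
  have hp : T 0 = T 1 * T 2 * T 3 * T 4 := by
    rw [hTi, hTi, hTi, hTi, hTi, ← map_mul, ← map_mul, ← map_mul, cj_zero]
    congr 1
    have h5 := prod_orbit h hy h1
    simp only [mul_assoc] at h5 ⊢
    exact mul_left_cancel ((h.inv d1 h1).trans h5.symm)
  have hY : ρ y⁻¹ * ρ y = 1 := by rw [← map_mul, inv_mul_cancel, map_one]
  have hYT : ∀ i, T (i + 1) * ρ y = ρ y * T i := fun i => by
    rw [hTi, hTi, ← map_mul, ← map_mul]
    congr 1
    rw [add_comm, cj_add]
    change y ^ 1 * cj y i d1 * (y ^ 1)⁻¹ * y = _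
    rw [pow_one, inv_mul_cancel_right]
  obtain ⟨α1, α2, α3, ⟨a1, a2, a3, a4, a5⟩, ⟨b1, b2, b3, b4, b5⟩, ⟨c1, c2, c3, c4, c5⟩⟩ := orb_dims hp hY hYT
  -- the total dimension
  have htop : Module.finrank k V = Module.finrank k ↥(W T false false false false) + 5 * (α1 + α2 + α3) := by
    have h5 := decomp h2 hT hc ⊤ (fun _ _ _ => Submodule.mem_top)
    have h6 : ∀ a b c d, Module.finrank k ↥(⊤ ⊓ W T a b c d) = Module.finrank k ↥(W T a b c d) :=
      fun a b c d => by rw [top_inf_eq]
    rw [finrank_top] at h5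
    simp only [Fintype.sum_bool, h6] at h5
    omega
  -- the three dimensions
  have e0 : Module.finrank k ↥(eg (ρ d1) true) = 2 * (α1 + α2 + α3 + α3) := by
    have h5 := dim_eg h2 hT hc (R := ρ d1) (fun i => by
      have := hc 0 i
      rwa [hTi 0, cj_zero] at this) (fun a _ _ _ => a) (fun a b c d v hv => by
        have := (mem_W.1 hv).1
        rwa [hTi 0, cj_zero] at this)
    simp only [Fintype.sum_bool, if_true, Bool.false_eq_true, if_false] at h5
    omega
  have e01 : Module.finrank k ↥(eg (ρ (d1 * cj y 1 d1)) true) = 2 * (α1 + α2 + α3 + α2) := by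
    have hR : ρ (d1 * cj y 1 d1) = T 0 * T 1 := by rw [hTi, hTi, cj_zero, map_mul]
    have h5 := dim_eg h2 hT hc (R := ρ (d1 * cj y 1 d1)) (fun i => by
      rw [hR, mul_assoc, hc 1 i, ← mul_assoc, hc 0 i, mul_assoc]) (fun a b _ _ => xor a b) (fun a b c d v hv => by
        rw [hR, Module.End.mul_apply, (mem_W.1 hv).2.1, map_smul, (mem_W.1 hv).1, smul_smul, sg_xor, mul_comm])
    simp only [Fintype.sum_bool, if_true, Bool.false_eq_true, if_false, Bool.xor_false, Bool.xor_true, Bool.not_true,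
      Bool.not_false] at h5
    omega
  have e02 : Module.finrank k ↥(eg (ρ (d1 * cj y 2 d1)) true) = 2 * (α1 + α2 + α3 + α1) := by
    have hR : ρ (d1 * cj y 2 d1) = T 0 * T 2 := by rw [hTi, hTi, cj_zero, map_mul]
    have h5 := dim_eg h2 hT hc (R := ρ (d1 * cj y 2 d1)) (fun i => by
      rw [hR, mul_assoc, hc 2 i, ← mul_assoc, hc 0 i, mul_assoc]) (fun a _ c _ => xor a c) (fun a b c d v hv => by
        rw [hR, Module.End.mul_apply, (mem_W.1 hv).2.2.1, map_smul, (mem_W.1 hv).1, smul_smul, sg_xor, mul_comm])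
    simp only [Fintype.sum_bool, if_true, Bool.false_eq_true, if_false, Bool.xor_false, Bool.xor_true, Bool.not_true,
      Bool.not_false] at h5
    omega
  -- the fixed space
  have hfix : Module.finrank k ↥(⨅ d ∈ D, LinearMap.ker (ρ d - 1)) = Module.finrank k ↥(W T false false false false) := by
    obtain ⟨x0, x1, x2, x3, _, g2, g3⟩ := inf_eq_W h hy h1 n1 ρ 1
    obtain ⟨rfl, rfl, rfl, rfl⟩ := g2 rfl
    rw [← hTdef] at g3
    rw [← g3]
    have : (⨅ d ∈ D, LinearMap.ker (ρ d - 1)) = ⨅ e : D, LinearMap.ker (ρ (e : S) -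
        algebraMap k _ (((((1 : D →* ℤˣ) e : ℤˣ) : ℤ)) : k)) := by
      rw [iInf_subtype']
      refine iInf_congr fun e => ?_
      rw [MonoidHom.one_apply, Units.val_one, Int.cast_one, map_one]
    rw [this]
  -- the eigenspaces of the characters
  have hchar : ∀ l : D →* ℤˣ, l ≠ 1 → ∃ a : ℕ, (a = α1 ∨ a = α2 ∨ a = α3) ∧
      Module.finrank k ↥(⨅ d : D, LinearMap.ker (ρ (d : S) - algebraMap k _ (((l d : ℤ)) : k))) = a := by
    intro l hl
    obtain ⟨x0, x1, x2, x3, g1, _, g3⟩ := inf_eq_W h hy h1 n1 ρ l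
    rw [← hTdef] at g3
    rw [g3]
    refine ⟨_, ?_, rfl⟩
    cases x0 <;> cases x1 <;> cases x2 <;> cases x3 <;> first
      | exact absurd (g1 rfl rfl rfl rfl) hl
      | omega
  rw [eg_true, eg_true, eg_true, hfix]
  obtain ⟨i, hi⟩ := orbits h hy h1 n1 h2' n2
  obtain ⟨j, hj⟩ := orbits h hy h1 n1 h3 n3
  rcases hi with hi | hi
  · exact absurd hi (h12 i)
  rcases hj with hj | hj
  · exact absurd hj (h13 j)
  have m01 : d1 * cj y 1 d1 ∈ D := D.mul_mem h1 (m 1)
  have m02 : d1 * cj y 2 d1 ∈ D := D.mul_mem h1 (m 2)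
  rcases hi with hi | hi <;> rcases hj with hj | hj
  · obtain ⟨t, ht⟩ := same_orb h hy m01 hi hj
    exact absurd ht (h23 t)
  · refine ⟨α1 + α2 + α3, α3, α2, α1, e0, ?_, ?_, by omega, htop, fun l hl => ?_⟩
    · rw [hi, dim_conj, e01]
    · rw [hj, dim_conj, e02]
    · obtain ⟨a, ha, hb⟩ := hchar l hl
      refine ⟨a, ?_, hb⟩
      simp only [Set.mem_insert_iff, Set.mem_singleton_iff]
      tauto
  · refine ⟨α1 + α2 + α3, α3, α1, α2, e0, ?_, ?_, by omega, htop, fun l hl => ?_⟩
    · rw [hi, dim_conj, e02]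
    · rw [hj, dim_conj, e01]
    · obtain ⟨a, ha, hb⟩ := hchar l hl
      refine ⟨a, ?_, hb⟩
      simp only [Set.mem_insert_iff, Set.mem_singleton_iff]
      tauto
  · obtain ⟨t, ht⟩ := same_orb h hy m02 hi hj
    exact absurd ht (h23 t)

end Cfsg.Agent.H200.KS
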